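import Mathlib
import Cfsg.Agent.MacW.SR16
import Cfsg.Agent.FGS.SecRank2
import Cfsg.Agent.Inv.RankTwoSylow

set_option autoImplicit false
set_option linter.style.haveILetI false
set_option linter.unnecessarySimpa false
set_option linter.unusedSectionVars false

/-! Two-groups with two normal subgroups whose quotients embed in `Sym(4)`. -/

namespace Cfsg.Agent.Fxy
open Cfsg Subgroup Cfsg.Agent.PLocal.Amb Cfsg.Agent.MacW Equiv

variable {G : Type*} [Group G] [Finite G]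

/-- `R / K` embeds in the symmetric group of degree `n`. -/
def PQ (n : ℕ) (R K : Subgroup G) : Prop :=
  K ≤ R ∧ ∃ φ : R →* Perm (Fin n), ∀ x : R, φ x = 1 ↔ (x : G) ∈ K

set_option synthInstance.maxSize 2000 in
theorem card_le_four {L : Subgroup (Perm (Fin 4))} (h2 : IsPGroup 2 L)
    (hc : ∀ a ∈ L, ∀ b ∈ L, a * b = b * a) : Nat.card L ≤ 4 := by
  have key : ∀ a b c d : Perm (Fin 4), (L : Set (Perm (Fin 4))) ⊆ {a, b, c, d} → Nat.card L ≤ 4 :=
    fun a b c d h => by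
      have h1 := (Set.ncard_le_ncard h).trans (Set.ncard_insert_le _ _)
      have h3 := Set.ncard_insert_le b ({c, d} : Set (Perm (Fin 4)))
      have h4 := Set.ncard_insert_le c ({d} : Set (Perm (Fin 4)))
      rw [Set.ncard_singleton] at h4
      change (L : Set (Perm (Fin 4))).ncard ≤ 4
      omega
  by_cases h : ∀ a ∈ L, a * a = 1
  · by_cases h' : ∃ a ∈ L, ∃ b ∈ L, a ≠ 1 ∧ b ≠ 1 ∧ a ≠ b
    · obtain ⟨a, ha, b, hb, h1, h2, h3⟩ := h'
      exact key 1 a b (a * b) fun c hc' => (by decide +kernel : ∀ a : Perm (Fin 4), a * a = 1 → a ≠ 1 →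
        ∀ b, b * b = 1 → b ≠ 1 → a ≠ b → a * b = b * a → ∀ c, c * a = a * c → c * b = b * c →
          c = 1 ∨ c = a ∨ c = b ∨ c = a * b) a (h a ha) h1 b (h b hb) h2 h3 (hc a ha b hb) c
            (hc c hc' a ha) (hc c hc' b hb)
    · push Not at h'
      by_cases h0 : ∃ a ∈ L, a ≠ 1
      · obtain ⟨a, ha, h1⟩ := h0
        refine key 1 a a a fun c hc' => ?_
        by_cases e : c = 1
        · exact Or.inl e
        · exact Or.inr (Or.inl (h' c hc' a ha e h1))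
      · push Not at h0
        exact key 1 1 1 1 fun c hc' => Or.inl (h0 c hc')
  · push Not at h
    obtain ⟨a, ha, h1⟩ := h
    obtain ⟨k, hk⟩ := isPGroup_iff.1 h2 a ha
    have h3 : a ^ 3 ≠ 1 := fun e => h1 (by
      have := pow_gcd_eq_one.2 ⟨hk, e⟩
      rw [show Nat.gcd (2 ^ k) 3 = 1 from Nat.Coprime.pow_left k (by norm_num), pow_one] at this
      rw [this, one_mul])
    exact key 1 a (a * a) (a * a * a) fun c hc' => (by decide +kernel : ∀ a : Perm (Fin 4), a * a ≠ 1 →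
      a ^ 3 ≠ 1 → ∀ c, c * a = a * c → c = 1 ∨ c = a ∨ c = a * a ∨ c = a * a * a) a h1 h3 c
        (hc c hc' a ha)

namespace PQ
variable {n : ℕ} {R K : Subgroup G}

theorem norm (q : PQ n R K) : R ≤ 𝐍[K] := by
  obtain ⟨hK, φ, hφ⟩ := q
  refine le_normalizer_iff_cj.2 fun g hg => cj_le_iff_forall.2 fun x hx => ?_
  have := (hφ (⟨g, hg⟩ * ⟨x, hK hx⟩ * ⟨g, hg⟩⁻¹)).1 (by
    rw [map_mul, map_mul, (hφ ⟨x, hK hx⟩).2 hx]; simp)
  exact this

theorem card_eq (hK : K ≤ R) {φ : R →* Perm (Fin n)} (hφ : ∀ x : R, φ x = 1 ↔ (x : G) ∈ K) :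
    Nat.card R = Nat.card φ.range * Nat.card K := by
  have e := Grp.card_map_mul_card_ker_inf φ ⊤
  rw [← MonoidHom.range_eq_map, inf_top_eq, card_top,
    show φ.ker = K.subgroupOf R from Subgroup.ext hφ, Grp.card_subgroupOf_of_le hK] at e
  exact e.symm

theorem card_le (q : PQ n R K) {p m : ℕ} [Fact p.Prime] (hR : IsPGroup p R)
    (h : ∀ k, p ^ k ∣ n.factorial → p ^ k ≤ m) : Nat.card R ≤ m * Nat.card K := by
  obtain ⟨hK, φ, hφ⟩ := q
  rw [card_eq hK hφ]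
  refine Nat.mul_le_mul_right _ ?_
  obtain ⟨k, hk⟩ := (hR.of_surjective _ φ.rangeRestrict_surjective).exists_card_eq
  have := card_subgroup_dvd_card φ.range
  rw [hk, Nat.card_perm, Nat.card_eq_fintype_card, Fintype.card_fin] at this
  exact hk ▸ h k this

theorem pow_le {p a m : ℕ} (hp : 1 < p) (hm : ¬ p ^ (a + 1) ∣ m) (k : ℕ) (h : p ^ k ∣ m) :
    p ^ k ≤ p ^ a := by
  refine Nat.pow_le_pow_right (by omega) (not_lt.1 fun e => hm ((pow_dvd_pow p e).trans h))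

theorem two (q : PQ n R K) (hn : n ≤ 3) (hR : IsPGroup 2 R) : Nat.card R ≤ 2 * Nat.card K :=
  q.card_le hR fun k hk => pow_le (a := 1) one_lt_two (by decide) k
    (hk.trans (Nat.factorial_dvd_factorial hn))

theorem eight (q : PQ 4 R K) (hR : IsPGroup 2 R) : Nat.card R ≤ 8 * Nat.card K :=
  q.card_le hR (pow_le (a := 3) one_lt_two (by decide))

theorem three (q : PQ n R K) (hn : n ≤ 4) (hR : IsPGroup 3 R) : Nat.card R ≤ 3 * Nat.card K :=
  haveI : Fact (Nat.Prime 3) := ⟨Nat.prime_three⟩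
  q.card_le hR fun k hk => pow_le (a := 1) (by norm_num) (by decide) k
    (hk.trans (Nat.factorial_dvd_factorial hn))

theorem ab (q : PQ 4 R K) (hR : IsPGroup 2 R) (h : ∀ x ∈ R, ∀ y ∈ R, cm x y ∈ K) :
    Nat.card R ≤ 4 * Nat.card K := by
  obtain ⟨hK, φ, hφ⟩ := q
  rw [card_eq hK hφ]
  refine Nat.mul_le_mul_right _ (card_le_four (hR.of_surjective _ φ.rangeRestrict_surjective) ?_)
  rintro _ ⟨x, rfl⟩ _ ⟨y, rfl⟩
  have := (hφ (cm x y)).2 (h x x.2 y y.2)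
  simp only [cm, map_mul, map_inv] at this
  exact cm_eq_one.1 this

theorem sq (q : PQ 4 R K) (hR : IsPGroup 2 R) (h : ∀ x ∈ R, x ^ 2 ∈ K) :
    Nat.card R ≤ 4 * Nat.card K := q.ab hR fun x hx y hy => by
  have := mul_mem (mul_mem (h _ (mul_mem hx hy)) (inv_conj_mem_of_mem_normalizer (q.norm hy)
    (inv_mem (h x hx)))) (inv_mem (h y hy))
  have e : cm x y = (x * y) ^ 2 * (y⁻¹ * (x ^ 2)⁻¹ * y) * (y ^ 2)⁻¹ := by
    unfold cm; simp only [_root_.sq]; group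
  rwa [e]

theorem sr {k : ℕ} (q : PQ 4 R K) (hR : IsPGroup 2 R) (h : SR k K) : SR (k + 2) R :=
  h.ext8 hR q.1 q.norm (q.eight hR) (q.sq hR)

end PQ

theorem exists_cent_inv {R K : Subgroup G} (hR : IsPGroup 2 R) (hK : IsPGroup 2 K) (hn : R ≤ 𝐍[K])
    (h1 : K ≠ ⊥) : ∃ t ∈ K, t ≠ 1 ∧ t ^ 2 = 1 ∧ ∀ r ∈ R, Commute r t := by
  obtain ⟨⟨u, hu⟩, hu1⟩ := ne_bot_iff_exists_ne_one.1 (inf_centralizer_ne_bot hR hK hn h1)
  obtain ⟨⟨t, ht⟩, ⟨k, hk⟩, t1, t2⟩ := exists_inv_pow hK (x := ⟨u, hu.1⟩)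
    fun e => hu1 (Subtype.ext (congrArg (fun z : K => (z : G)) e))
  obtain rfl : u ^ k = t := congrArg Subtype.val hk
  exact ⟨_, ht, fun e => t1 (Subtype.ext e), congrArg Subtype.val t2,
    fun r hr => (show Commute r u from hu.2 r hr).zpow_right k⟩

theorem dih_amb {S : Subgroup G} (hS : IsPGroup 2 S) {t u : G} (ht : t ∈ S) (hu : u ∈ S)
    (t1 : t ≠ 1) (u1 : u ≠ 1) (t2 : t ^ 2 = 1) (u2 : u ^ 2 = 1) (hne : t ≠ u) (hc : Commute u t)
    (h4 : Nat.card (S ⊓ centralizer {t} : Subgroup G) ≤ 4) :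
    (∃ n : ℕ, Nonempty (S ≃* DihedralGroup n)) ∨ IsQuasiDihedral S := by
  have hz : ∀ x ∈ zpowers t, Commute x u := by rintro _ ⟨k, rfl⟩; exact hc.symm.zpow_left k
  have h2 : u ^ 2 ∈ zpowers t := u2 ▸ one_mem _
  set F := adj (zpowers t) u (mem_norm_of_comm hz) h2
  have hF : Nat.card F = 4 := by
    rw [card_adj fun e => (HB.mem_zpowers_two t2 e).elim u1 hne.symm, Nat.card_zpowers,
      orderOf_eq_prime t2 t1]
  have hsq : ∀ x ∈ F, x ^ 2 = 1 := sq_adj (fun x hx => by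
    rcases HB.mem_zpowers_two t2 hx with rfl | rfl
    exacts [one_pow _, t2]) u2 hz
  have hFS : F ≤ S := adj_le (zpowers_le.2 ht) hu
  have hle : F ≤ S ⊓ centralizer {t} := fun x hx => ⟨hFS hx, mem_centralizer_singleton_iff.2
    (comm_of_sq hsq hx (le_adj (mem_zpowers t)))⟩
  have e : centralizer ({⟨t, ht⟩} : Set S) = (S ⊓ centralizer {t}).subgroupOf S := by
    ext x
    simp [mem_centralizer_singleton_iff, mem_subgroupOf, Subtype.ext_iff]
  refine (Inv.dihedral_or_of_centralizer hS (t := ⟨t, ht⟩) (fun h => ?_)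
    (fun e => t1 (congrArg Subtype.val e)) (Subtype.ext (by simpa [_root_.sq] using t2)) ?_).imp_left
    fun ⟨m, _, h⟩ => ⟨m, h⟩
  · have := h (F.subgroupOf S) ⟨⟨fun a b => Subtype.ext (Subtype.ext (comm_of_sq hsq a.2 b.2))⟩⟩
      fun a ha => Subtype.ext (hsq _ ha)
    rw [Grp.card_subgroupOf_of_le hFS, hF] at this
    omega
  · rw [e, Grp.card_subgroupOf_of_le inf_le_left]
    exact le_antisymm h4 (hF ▸ card_le_of_le hle)

/-- An element of `R` outside `K K₁` does not centralize `K₁`. -/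
theorem card_inf_le_two {R K K₁ : Subgroup G} (hR : IsPGroup 2 R) (q : PQ 4 R K) (h1 : K₁ ≤ R)
    (hc : ∀ a ∈ K, ∀ b ∈ K₁, Commute a b) (hd : K ⊓ K₁ = ⊥) (hK : Nat.card K = 4)
    (hK₁ : Nat.card K₁ = 4) {b : G} (hb : b ∈ R) (hbE : b ∉ K ⊔ K₁) :
    Nat.card (K₁ ⊓ centralizer {b} : Subgroup G) ≤ 2 := by
  refine card_le_of_lt' hR (inf_le_left.trans h1) 1 (not_le.1 fun h4 => ?_)
  have e := eq_of_le_of_card_ge (inf_le_left : K₁ ⊓ centralizer {b} ≤ K₁) (by omega)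
  have hE : Nat.card (K ⊔ K₁ : Subgroup G) = 16 := by
    rw [FGS.SecRank.card_sup_of_commute hc hd, hK, hK₁]
  have h2 := two_mul_le_of_lt (sup_le q.1 h1) hb hbE
  have h8 := q.eight hR
  have hab : ∀ a ∈ K₁, ∀ c ∈ K₁, Commute a c := fun a ha c hc => by
    letI := IsPGroup.commGroupOfCardEqPrimeSq (p := 2) (G := K₁) hK₁
    exact congrArg Subtype.val (mul_comm (⟨a, ha⟩ : K₁) ⟨c, hc⟩)
  have hdec : ∀ x ∈ R, ∃ k ∈ K, ∃ y ∈ R, x = k * y ∧ (y ∈ K₁ ∨ y * b ∈ K₁) := fun x hx => by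
    have hm : ∀ w ∈ K ⊔ K₁, ∃ k ∈ K, ∃ y ∈ K₁, w = k * y := fun w hw =>
      (mem_sup_of_le_normalizer_left (h1.trans q.norm)).1 hw
    rcases mem_or_of_card (sup_le q.1 h1) (by omega) hb hbE hx with e1 | e1
    · obtain ⟨k, hk, y, hy, rfl⟩ := hm _ e1
      exact ⟨k, hk, y, h1 hy, rfl, Or.inl hy⟩
    · obtain ⟨k, hk, y, hy, e2⟩ := hm _ e1
      exact ⟨k, hk, y * b⁻¹, mul_mem (h1 hy) (inv_mem hb), by rw [← mul_assoc, ← e2]; group,
        Or.inr (by simpa using hy)⟩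
  have hb' : ∀ y ∈ K₁, Commute y b := fun y hy => mem_centralizer_singleton_iff.1 (e.ge hy).2
  have hcm : ∀ y y' : G, (y ∈ K₁ ∨ y * b ∈ K₁) → (y' ∈ K₁ ∨ y' * b ∈ K₁) → Commute y y' := by
    have k1 : ∀ y c, y * b ∈ K₁ → Commute c b → (∀ w ∈ K₁, Commute c w) → Commute c y :=
      fun y c hy h1 h2 => by simpa using (h2 _ hy).mul_right h1.inv_right
    rintro y y' (hy | hy) (hy' | hy')
    · exact hab y hy y' hy'
    · exact k1 y' y hy' (hb' y hy) (hab y hy)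
    · exact (k1 y y' hy (hb' y' hy') (hab y' hy')).symm
    · refine k1 y' y hy' (k1 y b hy (Commute.refl b) fun w hw => (hb' w hw).symm).symm fun w hw => ?_
      exact (k1 y w hy (hb' w hw) (hab w hw)).symm
  have := q.ab hR fun x hx x' hx' => by
    obtain ⟨k, hk, y, hy, rfl, e1⟩ := hdec x hx
    obtain ⟨k', hk', y', hy', rfl, e2⟩ := hdec x' hx'
    have c := hcm y y' e1 e2
    have : cm (k * y) (k' * y') = k * (y * k' * y⁻¹) * ((y * y' * y⁻¹) * k⁻¹ * (y * y' * y⁻¹)⁻¹) *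
        (y * y' * y⁻¹ * y'⁻¹) * k'⁻¹ := by unfold cm; group
    rw [this, c.eq, mul_inv_cancel_right, mul_inv_cancel, mul_one]
    exact mul_mem (mul_mem (mul_mem hk (conj_mem_of_mem_normalizer (q.norm hy) hk'))
      (conj_mem_of_mem_normalizer (q.norm hy') (inv_mem hk))) (inv_mem hk')
  omega

theorem lemM {S R K K₁ : Subgroup G} (hS : IsPGroup 2 S) (hRS : R ≤ S) (q : PQ 4 R K)
    (q₁ : PQ 4 R K₁) (hd : K ⊓ K₁ = ⊥) (hc : Nat.card K₁ = Nat.card K) (hne : K ≠ ⊥)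
    (h4 : Nat.card K ≤ 4) (hC : ∀ k ∈ K, k ≠ 1 → S ⊓ centralizer {k} ≤ R)
    (hsame : (∀ k ∈ K, k ^ 2 = 1) ↔ ∀ k ∈ K₁, k ^ 2 = 1) : SR 4 S := by
  have hR := hS.to_le hRS
  have hcom : ∀ a ∈ K, ∀ b ∈ K₁, Commute a b := fun a ha b hb => cm_eq_one.1 (mem_bot.1 (hd.le
    (mem_inf.2 ⟨by
      simpa [cm, mul_assoc] using mul_mem ha (conj_mem_of_mem_normalizer (q.norm (q₁.1 hb)) (inv_mem ha)),
      mul_mem (conj_mem_of_mem_normalizer (q₁.norm (q.1 ha)) hb) (inv_mem hb)⟩)))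
  have hne₁ : K₁ ≠ ⊥ := fun e => hne (card_eq_one.1 (by rw [← hc, e, card_bot]))
  obtain ⟨t, ht, t1, t2, tc⟩ := exists_cent_inv hR (hR.to_le q.1) q.norm hne
  obtain ⟨u, hu, u1, u2, uc⟩ := exists_cent_inv hR (hR.to_le q₁.1) q₁.norm hne₁
  have hz : ∀ x ∈ zpowers t, Commute x u := fun x hx => uc x (q.1 (zpowers_le.2 ht hx))
  have h2 : u ^ 2 ∈ zpowers t := u2 ▸ one_mem _
  set F := adj (zpowers t) u (mem_norm_of_comm hz) h2
  have hF : Nat.card F = 4 := by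
    rw [card_adj fun e => u1 (mem_bot.1 (hd.le ⟨zpowers_le.2 ht e, hu⟩)), Nat.card_zpowers,
      orderOf_eq_prime t2 t1]
  have hsq : ∀ x ∈ F, x ^ 2 = 1 := sq_adj (fun x hx => by
    rcases HB.mem_zpowers_two t2 hx with rfl | rfl
    exacts [one_pow _, t2]) u2 hz
  have hFE : F ≤ K ⊔ K₁ := adj_le (zpowers_le.2 (mem_sup_left ht)) (mem_sup_right hu)
  have hER : K ⊔ K₁ ≤ R := sup_le q.1 q₁.1
  have htF : t ∈ F := le_adj (mem_zpowers t)
  have hFc : ∀ r ∈ R, F ≤ centralizer {r} := fun r hr => adj_le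
    (zpowers_le.2 (mem_centralizer_singleton_iff.2 (tc r hr).symm))
    (mem_centralizer_singleton_iff.2 (uc r hr).symm)
  have har : ∀ a ∈ R, a ∉ F → a ^ 2 = 1 → Nat.card (R ⊓ centralizer {a} : Subgroup G) ≤ 8 →
      SR 4 S := fun a ha haF a2 h8 =>
    SR.harada2 hS ((hFE.trans hER).trans hRS) hF hsq htF (hRS ha) haF a2
      (fun x hx => mem_centralizer_singleton_iff.1 (hFc a ha hx))
      ((card_le_of_le (inf_le_inf_right _ (hC t ht t1))).trans h8)
  have hE := FGS.SecRank.card_sup_of_commute hcom hd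
  have h8 := q.eight hR
  have hdec : ∀ w ∈ K ⊔ K₁, ∃ k ∈ K, ∃ y ∈ K₁, w = k * y := fun w hw =>
    (mem_sup_of_le_normalizer_left (q₁.1.trans q.norm)).1 hw
  have hout : Nat.card K = 4 → ∀ b ∈ R, b ∉ K ⊔ K₁ →
      Nat.card ((K ⊔ K₁) ⊓ centralizer {b} : Subgroup G) ≤ 4 ∧
        Nat.card (R ⊓ centralizer {b} : Subgroup G) ≤ 8 := fun hK b hb hbE => by
    have c1 := card_inf_le_two hR q q₁.1 hcom hd hK (hc.trans hK) hb hbE
    have c2 := card_inf_le_two hR q₁ q.1 (fun a ha b hb => (hcom b hb a ha).symm)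
      (by rw [inf_comm, hd]) (hc.trans hK) hK hb (by rwa [sup_comm])
    have c3 : (K ⊔ K₁) ⊓ centralizer {b} ≤ K ⊓ centralizer {b} ⊔ K₁ ⊓ centralizer {b} := by
      intro w hw
      obtain ⟨k, hk, y, hy, rfl⟩ := hdec w hw.1
      have m1 := conj_mem_of_mem_normalizer (q.norm hb) hk
      have m2 := conj_mem_of_mem_normalizer (q₁.norm hb) hy
      have e := mem_centralizer_singleton_iff.1 hw.2
      have e1 : k⁻¹ * (b * k * b⁻¹) = y * (b * y * b⁻¹)⁻¹ := by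
        calc _ = k⁻¹ * (b * (k * y)) * (y⁻¹ * b⁻¹) := by group
          _ = _ := by rw [← e]; group
      have e2 := mem_bot.1 (hd.le (mem_inf.2 ⟨mul_mem (inv_mem hk) m1, e1 ▸ mul_mem hy (inv_mem m2)⟩))
      refine mul_mem (mem_sup_left ⟨hk, mem_centralizer_singleton_iff.2 ?_⟩)
        (mem_sup_right ⟨hy, mem_centralizer_singleton_iff.2 ?_⟩)
      · rw [inv_mul_eq_one] at e2; nth_rewrite 1 [e2]; group
      · rw [e1, mul_inv_eq_one] at e2; nth_rewrite 1 [e2]; group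
    have c4 := card_le_of_le c3
    rw [FGS.SecRank.card_sup_of_commute (fun a ha b hb => hcom a (mem_inf.1 ha).1 b (mem_inf.1 hb).1)
      (eq_bot_iff.2 ((inf_le_inf inf_le_left inf_le_left).trans hd.le))] at c4
    have c5 := c4.trans (Nat.mul_le_mul c2 c1)
    refine ⟨c5, ?_⟩
    have c6 := card_le_mul_inf (inf_le_left : R ⊓ centralizer {b} ≤ R) hER (b := 2)
      (by rw [hE, hc, hK]; omega)
    have c7 := card_le_of_le (show R ⊓ centralizer {b} ⊓ (K ⊔ K₁) ≤ (K ⊔ K₁) ⊓ centralizer {b} from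
      fun x hx => ⟨hx.2, hx.1.2⟩)
    omega
  by_cases hel : Nat.card K = 4 ∧ ∀ k ∈ K, k ^ 2 = 1
  · have hEsq : ∀ w ∈ K ⊔ K₁, w ^ 2 = 1 := fun w hw => by
      obtain ⟨k, hk, y, hy, rfl⟩ := hdec w hw
      rw [(hcom k hk y hy).mul_pow, hel.2 k hk, hsame.1 hel.2 y hy, one_mul]
    rw [hc, hel.1] at hE
    by_cases hRE : R ≤ K ⊔ K₁
    · exact SR.E16' hS (hER.trans hRS) hEsq hE le_sup_left hel.1
        fun b hb b1 => (hC b hb b1).trans hRE
    obtain ⟨b, hb, hbE⟩ := SetLike.not_le_iff_exists.1 hRE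
    have hn : b ∈ 𝐍[K ⊔ K₁] := le_normalizer_sup q.norm q₁.norm hb
    have hb2 : b ^ 2 ∈ K ⊔ K₁ := by
      have := two_mul_le_of_lt hER hb hbE
      rw [_root_.sq]
      exact (mem_or_of_card hER (by omega) hb hbE hb).resolve_left hbE
    have hinv : ∀ w ∈ K ⊔ K₁, w⁻¹ = w := fun w hw => by
      rw [inv_eq_iff_mul_eq_one, ← _root_.sq, hEsq w hw]
    obtain ⟨e, he, h⟩ := range_eq_hom (U := K ⊔ K₁) (B := (K ⊔ K₁) ⊓ centralizer {b})
      (F := (K ⊔ K₁) ⊓ centralizer {b}) (fun w => b⁻¹ * w * b * w)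
      (fun v hv w hw => by
        have := comm_of_sq hEsq hv (inv_conj_mem_of_mem_normalizer hn hw)
        calc _ = b⁻¹ * v * b * (b⁻¹ * w * b * v) * w := by group
          _ = _ := by rw [← this]; group)
      (fun w hw => ⟨mul_mem (inv_conj_mem_of_mem_normalizer hn hw) hw,
        mem_centralizer_singleton_iff.2 (by
          have h1 := comm_of_sq hEsq hw (inv_conj_mem_of_mem_normalizer hn hw)
          have h2 := comm_of_sq hEsq hw hb2
          calc b⁻¹ * w * b * w * b = b * (b⁻¹ * b⁻¹ * (w * b ^ 2) * (b⁻¹ * w * b)) := by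
                simp only [_root_.sq]; group
            _ = b * (w * (b⁻¹ * w * b)) := by rw [h2]; simp only [_root_.sq]; group
            _ = _ := by rw [h1])⟩)
      (fun w hw e => ⟨hw, mem_centralizer_singleton_iff.2 (by
        rw [mul_eq_one_iff_eq_inv, hinv w hw] at e
        nth_rewrite 2 [← e]; group)⟩)
      (by have := (hout hel.1 b hb hbE).1; nlinarith) (b ^ 2)
      ⟨hb2, mem_centralizer_singleton_iff.2 ((Commute.refl b).pow_left 2)⟩
    have hbe : b * e ∉ K ⊔ K₁ := fun h => hbE (by simpa using mul_mem h (inv_mem he))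
    have m := mul_mem hb (hER he)
    refine har _ m (fun h => hbe (hFE h)) ?_ (hout hel.1 _ m hbe).2
    calc (b * e) ^ 2 = b ^ 2 * (b⁻¹ * e * b * e) := by simp only [_root_.sq]; group
      _ = 1 := by rw [h, ← _root_.sq, hEsq _ hb2]
  have hone : ∀ (L : Subgroup G) (v : G), v ∈ L → v ≠ 1 → v ^ 2 = 1 → (∀ k ∈ L, Commute k v) →
      Nat.card L ≤ 4 → ¬ (Nat.card L = 4 ∧ ∀ k ∈ L, k ^ 2 = 1) → ∀ k ∈ L, k ^ 2 = 1 →
      k ∈ zpowers v := fun L v hv v1 v2 hc h4 hel k hk k2 => by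
    by_contra hkv
    have hz : ∀ x ∈ zpowers v, Commute x k := by rintro _ ⟨i, rfl⟩; exact (hc k hk).symm.zpow_left i
    have h2 : k ^ 2 ∈ zpowers v := k2 ▸ one_mem _
    have c := card_adj (hn := mem_norm_of_comm hz) (h2 := h2) hkv
    rw [Nat.card_zpowers, orderOf_eq_prime v2 v1] at c
    have e := eq_of_le_of_card_ge (adj_le (hn := mem_norm_of_comm hz) (h2 := h2) (zpowers_le.2 hv) hk)
      (by omega)
    refine hel ⟨by rw [← e, c], fun x hx => sq_adj (fun x hx => ?_) k2 hz x (e.ge hx)⟩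
    rcases HB.mem_zpowers_two v2 hx with rfl | rfl
    exacts [one_pow _, v2]
  by_cases hall : ∀ a ∈ R, a ^ 2 = 1 → a ∈ F
  · exact SR.macW2 hS hF.le (hRS (q.1 ht)) htF t2 fun s hs s2 hc =>
      hall s (hC t ht t1 ⟨hs, mem_centralizer_singleton_iff.2 hc⟩) s2
  push Not at hall
  obtain ⟨a, ha, a2, haF⟩ := hall
  refine har a ha haF a2 ?_
  by_cases hK : Nat.card K = 4
  · refine (hout hK a ha fun h => haF ?_).2
    obtain ⟨k, hk, y, hy, rfl⟩ := hdec a h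
    rw [(hcom k hk y hy).mul_pow, mul_eq_one_iff_eq_inv] at a2
    have k2 := mem_bot.1 (hd.le (mem_inf.2 ⟨pow_mem hk 2, a2 ▸ inv_mem (pow_mem hy 2)⟩))
    rw [k2, eq_comm, inv_eq_one] at a2
    exact mul_mem (le_adj (hone K t ht t1 t2 (fun k hk => tc k (q.1 hk)) h4 hel k hk k2))
      (zpowers_le.2 self_mem_adj (hone K₁ u hu u1 u2 (fun k hk => uc k (q₁.1 hk)) (hc ▸ h4)
        (fun h => hel ⟨hK, hsame.2 h.2⟩) y hy a2))
  have hK2 := card_le_of_lt' hR q.1 1 (by omega)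
  by_contra hlt
  have h16 : 16 ≤ Nat.card (R ⊓ centralizer {a} : Subgroup G) := by
    by_contra h
    exact hlt (card_le_of_lt' hR inf_le_left 3 (by omega))
  have e := eq_of_le_of_card_ge (inf_le_left : R ⊓ centralizer {a} ≤ R) (by omega)
  have hca : ∀ x ∈ F, Commute x a := fun x hx => mem_centralizer_singleton_iff.1 (hFc a ha hx)
  have h2 : a ^ 2 ∈ F := a2 ▸ one_mem _
  have c := card_adj (hn := mem_norm_of_comm hca) (h2 := h2) haF
  have hA : ∀ r ∈ R, adj F a (mem_norm_of_comm hca) h2 ≤ centralizer {r} := fun r hr =>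
    adj_le (hFc r hr) (mem_centralizer_singleton_iff.2
      (mem_centralizer_singleton_iff.1 (e.ge hr).2).symm)
  have := q.ab hR fun x hx y hy => by
    rw [cm_eq_one.2]; exact one_mem _
    by_cases hx' : x ∈ adj F a (mem_norm_of_comm hca) h2
    · exact mem_centralizer_singleton_iff.1 (hA y hy hx')
    rcases mem_or_of_card (adj_le (hFE.trans hER) ha) (by rw [e] at h16; omega) hx hx' hy with h | h
    · exact (mem_centralizer_singleton_iff.1 (hA x hx h)).symm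
    · have := mem_centralizer_singleton_iff.1 (hA x hx h)
      rw [← mul_assoc] at this
      exact (mul_right_cancel this).symm
  rw [e] at h16
  omega

end Cfsg.Agent.Fxy
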