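import Mathlib
import Cfsg.Agent.Fxy.PQ

set_option autoImplicit false
set_option linter.style.haveILetI false
set_option linter.unnecessarySimpa false
set_option linter.unusedSectionVars false

/-! Maximal fixed point sets of elements of order `p`, their pointwise and setwise stabilizers. -/

namespace Cfsg.Agent.Fxy
open Cfsg Subgroup Cfsg.Agent.PLocal.Amb Cfsg.Agent.MacW Equiv MulAction
open scoped Pointwise

variable {G Ω : Type*} [Group G] [Finite G] [MulAction G Ω] [Finite Ω]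

variable (G) in
/-- `Δ` is a fixed point set of an element of order `p`, of the largest possible size `m`. -/
structure Mx (p m : ℕ) (Δ : Set Ω) : Prop where
  ex : ∃ t : G, orderOf t = p ∧ fixedBy Ω t = Δ
  card : Δ.ncard = m
  max : ∀ g : G, orderOf g = p → (fixedBy Ω g).ncard ≤ m

theorem mem_Q {Δ : Set Ω} {g : G} : g ∈ fixingSubgroup G Δ ↔ Δ ⊆ fixedBy Ω g :=
  mem_fixingSubgroup_iff_subset_fixedBy G

theorem fx_conj (g x : G) : fixedBy Ω (g * x * g⁻¹) = g • fixedBy Ω x := (smul_fixedBy Ω x g).symm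

theorem Q_smul (g : G) (Δ : Set Ω) : fixingSubgroup G (g • Δ) = cj(g, fixingSubgroup G Δ) := by
  ext x
  rw [mem_cj, mem_Q, mem_Q, Set.smul_set_subset_iff_subset_inv_smul_set, ← fx_conj, inv_inv]

theorem H_smul (g : G) (Δ : Set Ω) : stabilizer G (g • Δ) = cj(g, stabilizer G Δ) :=
  stabilizer_smul_eq_stabilizer_map_conj g Δ

theorem Q_le_H (Δ : Set Ω) : fixingSubgroup G Δ ≤ stabilizer G Δ :=
  fixingSubgroup_le_stabilizer G Δ

theorem H_le_norm (Δ : Set Ω) : stabilizer G Δ ≤ 𝐍[fixingSubgroup G Δ] := fun g hg => by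
  rw [← cj_eq_iff, ← Q_smul, mem_stabilizer_iff.1 hg]

theorem exists_perm {Δ : Set Ω} {m : ℕ} (hm : Δ.ncard = m) :
    ∃ φ : stabilizer G Δ →* Perm (Fin m), (∀ x, φ x = 1 ↔ (x : G) ∈ fixingSubgroup G Δ) ∧
      ∀ x i, φ x i = i → ∃ a ∈ Δ, (x : G) • a = a := by
  obtain ⟨e⟩ : Nonempty (Δ ≃ Fin m) := Finite.card_eq.1 (by simpa using hm)
  refine ⟨e.permCongrHom.toMonoidHom.comp (toPermHom (stabilizer G Δ) Δ), fun x => ?_,
    fun x i h => ⟨_, (e.symm i).2, congrArg Subtype.val (e.eq_symm_apply.2 h)⟩⟩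
  rw [mem_fixingSubgroup_iff]
  simp only [MulEquiv.toMonoidHom_eq_coe, MonoidHom.comp_apply, MonoidHom.coe_coe,
    map_eq_one_iff _ e.permCongrHom.injective, Equiv.ext_iff, Subtype.forall, Subtype.ext_iff]
  rfl

theorem pq_of_le {Δ : Set Ω} {m : ℕ} (hm : Δ.ncard = m) {R : Subgroup G}
    (hR : R ≤ stabilizer G Δ) : PQ m R (R ⊓ fixingSubgroup G Δ) := by
  obtain ⟨φ, h, -⟩ := exists_perm (G := G) hm
  exact ⟨inf_le_left, φ.comp (inclusion hR), fun x => (h _).trans (by simp)⟩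

theorem exists_ord {p : ℕ} [Fact p.Prime] {k : G} (h1 : k ≠ 1) (hk : ∃ j, k ^ p ^ j = 1) :
    ∃ i : ℕ, orderOf (k ^ i) = p := by
  obtain ⟨j, hj⟩ := hk
  obtain ⟨l, -, hl⟩ := (Nat.dvd_prime_pow Fact.out).1 (orderOf_dvd_of_pow_eq_one hj)
  refine ⟨_, orderOf_pow_orderOf_div (orderOf_pos k).ne' (hl ▸ dvd_pow_self p ?_)⟩
  rintro rfl
  exact h1 (orderOf_eq_one_iff.1 hl)

namespace Mx
variable {p m : ℕ} [hp : Fact p.Prime] {Δ Δ' : Set Ω} (h : Mx G p m Δ)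
include h

theorem smul (g : G) : Mx G p m (g • Δ) := by
  obtain ⟨t, h1, h2⟩ := h.ex
  exact ⟨⟨g * t * g⁻¹, by rw [orderOf_conj', h1], by rw [fx_conj, h2]⟩,
    by rw [Set.ncard_smul_set, h.card], h.max⟩

theorem fx {k : G} (hk : k ∈ fixingSubgroup G Δ) (h1 : k ≠ 1) (hp : ∃ j, k ^ p ^ j = 1) :
    fixedBy Ω k = Δ := by
  obtain ⟨i, hi⟩ := exists_ord h1 hp
  refine (Set.eq_of_subset_of_ncard_le (mem_Q.1 hk) ?_).symm
  refine le_trans (Set.ncard_le_ncard ?_) ((h.max _ hi).trans h.card.ge)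
  simpa using fixedBy_subset_fixedBy_zpow Ω k i

theorem eq (h' : Mx G p m Δ') {k : G} (hk : k ∈ fixingSubgroup G Δ)
    (hk' : k ∈ fixingSubgroup G Δ') (h1 : k ≠ 1) (hp : ∃ j, k ^ p ^ j = 1) : Δ = Δ' :=
  (h.fx hk h1 hp).symm.trans (h'.fx hk' h1 hp)

theorem mem_H {k g : G} (hk : k ∈ fixingSubgroup G Δ) (h1 : k ≠ 1) (hp : ∃ j, k ^ p ^ j = 1)
    (hg : g * k * g⁻¹ ∈ fixingSubgroup G Δ) : g ∈ stabilizer G Δ := by
  obtain ⟨j, hj⟩ := hp
  exact (h.smul g).eq h (Q_smul g Δ ▸ conj_mem_cj g hk) hg (by simpa using h1)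
    ⟨j, by rw [conj_pow, hj]; simp⟩

theorem cent {k : G} (hk : k ∈ fixingSubgroup G Δ) (h1 : k ≠ 1) (hp : ∃ j, k ^ p ^ j = 1) :
    centralizer {k} ≤ stabilizer G Δ := fun g hg =>
  h.mem_H hk h1 hp (by rwa [mem_centralizer_singleton_iff.1 hg, mul_inv_cancel_right])

theorem exQ : ∃ t ∈ fixingSubgroup G Δ, orderOf t = p ∧ t ≠ 1 ∧ t ^ p = 1 := by
  obtain ⟨t, h1, h2⟩ := h.ex
  exact ⟨t, mem_Q.2 h2.ge, h1, fun e => hp.out.ne_one (by rw [← h1, e, orderOf_one]),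
    h1 ▸ pow_orderOf_eq_one t⟩

theorem norm : 𝐍[fixingSubgroup G Δ] = stabilizer G Δ := by
  obtain ⟨t, h1, -, h2, h3⟩ := h.exQ
  exact le_antisymm (fun g hg => h.mem_H h1 h2 ⟨1, by simpa using h3⟩
    (conj_mem_of_mem_normalizer hg h1)) (H_le_norm Δ)

theorem disj (h' : Mx G p m Δ') (hne : Δ ≠ Δ') {X : Subgroup G} (hX : IsPGroup p X) :
    X ⊓ fixingSubgroup G Δ ⊓ (X ⊓ fixingSubgroup G Δ') = ⊥ :=
  eq_bot_iff.2 fun k hk => mem_bot.2 (by_contra fun h1 =>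
    hne (h.eq h' hk.1.2 hk.2.2 h1 (isPGroup_iff.1 hX k hk.1.1)))

theorem card_le (h' : Mx G p m Δ') (hne : Δ ≠ Δ') {X : Subgroup G} (hX : IsPGroup p X)
    (h1 : X ≤ fixingSubgroup G Δ) (h2 : X ≤ stabilizer G Δ') : Nat.card X ≤ m := by
  obtain ⟨a, ha, ha'⟩ : ∃ a ∈ Δ', a ∉ Δ := Set.not_subset.1 fun e =>
    hne (Set.eq_of_subset_of_ncard_le e (by rw [h.card, h'.card])).symm
  have := card_le_ncard_mul X ⊥ (Set.toFinite Δ') (· • a)
    (fun x hx => (mem_stabilizer_iff.1 (h2 hx)) ▸ Set.smul_mem_smul_set ha) fun x hx y hy e => by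
      have m := mul_mem (inv_mem hx) hy
      refine mem_bot.2 (by_contra fun k1 => ha' ?_)
      rw [← h.fx (h1 m) k1 (isPGroup_iff.1 hX _ m), mem_fixedBy, mul_smul, ← e, inv_smul_smul]
  rwa [inf_bot_eq, card_bot, mul_one, h'.card] at this

theorem syl_ne_bot {R : Subgroup G} (hR : IsSyl p R (stabilizer G Δ)) :
    R ⊓ fixingSubgroup G Δ ≠ ⊥ := by
  obtain ⟨t, h1, h2, -⟩ := h.exQ
  exact mt (hR.inf_of_le (Q_le_H Δ) (H_le_norm Δ)).eq_bot_iff.1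
    (not_not.2 (h2 ▸ (fixingSubgroup G Δ).orderOf_dvd_natCard h1))

theorem H_ne [FaithfulSMul G Ω] [IsPretransitive G Ω] (hm : 1 ≤ m) : stabilizer G Δ ≠ ⊤ := by
  intro e
  obtain ⟨a, ha⟩ := Set.nonempty_of_ncard_ne_zero (s := Δ) (by rw [h.card]; omega)
  obtain ⟨t, h1, -, h2, -⟩ := h.exQ
  refine h2 (fixedBy_eq_univ_iff_eq_one.1 (Set.eq_univ_of_forall fun b => mem_Q.1 h1 ?_))
  obtain ⟨g, rfl⟩ := exists_smul_eq G a b
  exact (mem_stabilizer_iff.1 (e.ge (mem_top g))) ▸ Set.smul_mem_smul_set ha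

/-- A Sylow subgroup of the setwise stabilizer which is not Sylow in `G`. -/
theorem climb {R S : Subgroup G} (hR : IsSyl p R (stabilizer G Δ)) (hS : IsPGroup p S)
    (hlt : R < S) : ∃ s ∈ S, s ∈ 𝐍[R] ∧ Δ ≠ s • Δ ∧ R ≤ stabilizer G (s • Δ) ∧
      R ⊓ fixingSubgroup G (s • Δ) = cj(s, R ⊓ fixingSubgroup G Δ) ∧ S ⊓ stabilizer G Δ = R := by
  obtain ⟨s, hs, hsR⟩ := SetLike.exists_of_lt (lt_inf_normalizer hS hlt)
  have e := hR.eq (hS.to_le inf_le_left) (le_inf hlt.le hR.le) inf_le_right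
  have hn := cj_of_mem_normalizer (mem_inf.1 hs).2
  exact ⟨s, hs.1, hs.2, fun e' => hsR (e.le ⟨hs.1, e'.symm⟩), by rw [H_smul, ← hn]; exact cj_mono _ hR.le,
    by rw [cj_inf, hn, Q_smul], e⟩

end Mx

end Cfsg.Agent.Fxy
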