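import Mathlib
import Cfsg.Agent.Fxy.Base
import Cfsg.Agent.Fxy.N3
import Cfsg.Agent.Transfer.Focal

set_option autoImplicit false
set_option linter.style.haveILetI false
set_option linter.unnecessarySimpa false
set_option linter.unusedSectionVars false

/-! Groups with odd point stabilizers in which elements of order 3 fix at most four points. -/

namespace Cfsg.Agent.Fxy
open Cfsg Subgroup Cfsg.Agent.PLocal.Amb Cfsg.Agent.MacW Equiv Equiv.Perm MulAction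
open scoped Pointwise

set_option synthInstance.maxSize 2000 in
theorem perm_even {m : ℕ} (hm : m ≤ 4) : ∀ ρ : Perm (Fin m), ρ ≠ 1 → ρ ^ 3 = 1 → ∀ γ : Perm (Fin m),
    ((∀ k : Fin 3, (∃ i, (γ * ρ ^ k.1) i = i) → (γ * ρ ^ k.1) ^ 3 = 1) → sign γ = 1) ∧
    (sign γ = 1 → γ ^ 3 * (ρ * γ ^ 3 * ρ⁻¹) * (ρ⁻¹ * γ ^ 3 * ρ⁻¹⁻¹) = 1) := by
  interval_cases m <;> decide +kernel

set_option synthInstance.maxSize 2000 in
theorem perm_sq {m : ℕ} (hm : m ≤ 4) : ∀ σ : Perm (Fin m), sign σ = 1 → ∀ τ : Perm (Fin m), sign τ = 1 →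
    (σ * τ * σ⁻¹ * τ⁻¹) ^ 2 = 1 ∧ (σ ^ 2 = 1 → τ ^ 2 = 1 → (σ * τ) ^ 2 = 1) := by
  interval_cases m <;> decide +kernel

theorem perm_cube {m : ℕ} (hm : m ≤ 4) {τ : Perm (Fin m)} (h : Odd (orderOf τ)) : τ ^ 3 = 1 := by
  have := orderOf_dvd_natCard τ
  rw [Nat.card_perm, Nat.card_eq_fintype_card, Fintype.card_fin] at this
  exact orderOf_dvd_iff_pow_eq_one.1 ((Nat.coprime_two_right.2 h).pow_right 3 |>.dvd_of_dvd_mul_left
    (this.trans (Nat.factorial_dvd_factorial hm)))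

variable {G Ω : Type*} [Group G] [Finite G] [MulAction G Ω] [Finite Ω]

theorem exists_cent_p {p : ℕ} [Fact p.Prime] {R K : Subgroup G} (hR : IsPGroup p R)
    (hK : IsPGroup p K) (hn : R ≤ 𝐍[K]) (h1 : K ≠ ⊥) :
    ∃ t ∈ K, orderOf t = p ∧ ∀ r ∈ R, Commute r t := by
  obtain ⟨⟨u, hu⟩, hu1⟩ := ne_bot_iff_exists_ne_one.1 (inf_centralizer_ne_bot hR hK hn h1)
  obtain ⟨i, hi⟩ := exists_ord (k := u) (fun e => hu1 (Subtype.ext e)) (isPGroup_iff.1 hK u hu.1)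
  exact ⟨_, pow_mem (mem_inf.1 hu).1 i, hi, fun r hr => (show Commute r u from hu.2 r hr).pow_right i⟩

theorem ord3 {x : G} (h : orderOf x = 3) : x ≠ 1 ∧ ∃ j, x ^ 3 ^ j = 1 :=
  ⟨fun e => by simp [e] at h, 1, by rw [pow_one, ← h, pow_orderOf_eq_one]⟩

theorem cases3 {x : G} (h : orderOf x = 3) (a : ℤ) : x ^ a = 1 ∨ x ^ a = x ∨ x ^ a = x⁻¹ := by
  rw [← zpow_mod_orderOf, h]
  have h3 : x ^ (2 : ℤ) = x⁻¹ := by
    rw [eq_inv_iff_mul_eq_one, ← pow_orderOf_eq_one x, h]; group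
  obtain e | e | e : a % (3 : ℕ) = 0 ∨ a % (3 : ℕ) = 1 ∨ a % (3 : ℕ) = 2 := by omega
  all_goals simp only [e, h3, zpow_zero, zpow_one, true_or, or_true]

theorem comm_of_odd {w x : G} (hw : Odd (orderOf w)) (h : w * w * x = x * (w * w)) : w * x = x * w :=
  mem_centralizer_singleton_iff.1 (mem_of_pow_mem_of_coprime (n := 2)
    (mem_centralizer_singleton_iff.2 (by rwa [sq])) (Nat.coprime_two_right.2 hw))

theorem shear {P : Subgroup G} (hP : IsPGroup 3 P) {y z : G} (hy : y ∈ P) (hz : z ∈ P)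
    (y3 : orderOf y = 3) (z3 : orderOf z = 3) (hc : ∀ r ∈ P, Commute r z) (hyz : y ∉ zpowers z)
    (h9 : Nat.card (P ⊓ centralizer {y} : Subgroup G) ≤ 9) :
    (Nat.card P = 9 ∧ ∀ x ∈ P, x ^ 3 = 1) ∨ ∃ n, n * y * n⁻¹ = y * z ∧ n * z * n⁻¹ = z := by
  haveI : Fact (Nat.Prime 3) := ⟨Nat.prime_three⟩
  have hA : closure {y, z} ≤ P ⊓ centralizer {y} := (closure_le _).2 (by
    rintro _ (rfl | rfl)
    exacts [⟨hy, mem_centralizer_singleton_iff.2 rfl⟩, ⟨hz, mem_centralizer_singleton_iff.2 (hc y hy).symm⟩])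
  have hyA : y ∈ closure ({y, z} : Set G) := subset_closure (by simp)
  have c1 := mul_card_le (hP.to_le (hA.trans inf_le_left)) (lt_of_le_of_ne
    (zpowers_le.2 (subset_closure (by simp) : z ∈ closure ({y, z} : Set G))) fun e => hyz (e ▸ hyA))
  rw [Nat.card_zpowers, z3] at c1
  have e := eq_of_le_of_card_ge hA (by omega)
  rcases (hA.trans inf_le_left).lt_or_eq with l | l
  swap
  · refine Or.inl ⟨by rw [← e, l] at h9; rw [l] at c1; omega, fun x hx => ?_⟩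
    obtain ⟨a, b, rfl⟩ := Fus.AC.mem_closure_pair_of_commute (hc y hy) (l.ge hx)
    rw [((hc y hy).zpow_zpow a b).mul_pow, ← zpow_natCast, ← zpow_natCast, zpow_comm, zpow_comm z,
      zpow_natCast, zpow_natCast, ← y3, pow_orderOf_eq_one, y3, ← z3, pow_orderOf_eq_one]
    simp
  obtain ⟨n, ⟨hn, hn'⟩, hnA⟩ := SetLike.exists_of_lt (lt_inf_normalizer hP l)
  have nz : n * z * n⁻¹ = z := by rw [(hc n hn).eq, mul_inv_cancel_right]
  have hne : n * y ≠ y * n := fun e' => hnA (e.ge ⟨hn, mem_centralizer_singleton_iff.2 e'⟩)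
  obtain ⟨a, b, e1⟩ := Fus.AC.mem_closure_pair_of_commute (hc y hy) (conj_mem_of_mem_normalizer hn' hyA)
  have nb : n * z ^ b * n⁻¹ = z ^ b := by rw [← conj_zpow, nz]
  right
  rcases cases3 y3 a with e2 | e2 | e2 <;> rw [e2] at e1
  · refine absurd ⟨b, ?_⟩ hyz
    rw [one_mul, ← nb] at e1
    simpa using e1.symm
  · rcases cases3 z3 b with e3 | e3 | e3 <;> rw [e3] at e1
    · exact absurd (by rw [← mul_inv_eq_iff_eq_mul, e1, mul_one]) hne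
    · exact ⟨n, e1, nz⟩
    · refine ⟨n⁻¹, ?_, by nth_rewrite 1 [← nz]; group⟩
      calc _ = n⁻¹ * (y * z⁻¹ * z) * n := by group
        _ = _ := by rw [← e1]; nth_rewrite 1 [← nz]; group
  · refine absurd (comm_of_odd ?_ ?_) hne
    · obtain ⟨j, hj⟩ := isPGroup_iff.1 hP n hn
      exact (Odd.pow (by decide)).of_dvd_nat (orderOf_dvd_of_pow_eq_one hj)
    · calc _ = n * (n * y * n⁻¹) * n⁻¹ * (n * n) := by group
        _ = (n * y * n⁻¹)⁻¹ * (n * z ^ b * n⁻¹) * (n * n) := by nth_rewrite 1 [e1]; group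
        _ = (z ^ b)⁻¹ * (y * z ^ b) * (n * n) := by rw [e1, nb]; group
        _ = _ := by rw [((hc y hy).zpow_right b).eq]; group

namespace Mx
variable {m : ℕ} {Δ Δ' : Set Ω} (h : Mx G 3 m Δ) (hm : m ≤ 4)
  (hodd : ∀ (g : G) (a : Ω), g • a = a → Odd (orderOf g))
include h hm hodd

theorem ev : ∃ φ : stabilizer G Δ →* Perm (Fin m), (∀ x, φ x = 1 ↔ (x : G) ∈ fixingSubgroup G Δ) ∧
    ∀ r : stabilizer G Δ, (r : G) ∉ fixingSubgroup G Δ → (∃ j, (r : G) ^ 3 ^ j = 1) →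
      φ r ≠ 1 ∧ φ r ^ 3 = 1 ∧ ∀ x, sign (φ x) = 1 := by
  obtain ⟨φ, h1, h2⟩ := exists_perm (G := G) h.card
  refine ⟨φ, h1, fun r hr ⟨j, hj⟩ => ?_⟩
  have k : ∀ x : stabilizer G Δ, Odd (orderOf (x : G)) → φ x ^ 3 = 1 := fun x hx =>
    perm_cube hm (hx.of_dvd_nat (orderOf_coe x ▸ orderOf_map_dvd φ x))
  have h3 := k r ((Odd.pow (by decide)).of_dvd_nat (orderOf_dvd_of_pow_eq_one hj))
  refine ⟨mt (h1 r).1 hr, h3, fun x => (perm_even hm _ (mt (h1 r).1 hr) h3 _).1 fun i ⟨a, ha⟩ => ?_⟩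
  rw [← map_pow, ← map_mul] at ha ⊢
  obtain ⟨b, -, hb⟩ := h2 _ _ ha
  exact k _ (hodd _ _ hb)

theorem nonreal (h1 : 1 ≤ m) {x r : G} (hx : x ∈ fixingSubgroup G Δ) (x3 : orderOf x = 3)
    (hr : Commute r x) (hrQ : r ∉ fixingSubgroup G Δ) (r3 : ∃ j, r ^ 3 ^ j = 1) (g : G) :
    g * x * g⁻¹ ≠ x⁻¹ := fun e => by
  haveI : Fact (Nat.Prime 3) := ⟨Nat.prime_three⟩
  obtain ⟨φ, k1, k2⟩ := h.ev hm hodd
  have hg := h.mem_H hx (ord3 x3).1 (ord3 x3).2 (e ▸ inv_mem hx)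
  have hrH := h.cent hx (ord3 x3).1 (ord3 x3).2 (mem_centralizer_singleton_iff.2 hr)
  obtain ⟨a1, a2, a3⟩ := k2 ⟨r, hrH⟩ hrQ r3
  have := (perm_even hm _ a1 a2 _).2 (a3 ⟨g, hg⟩)
  simp only [← map_inv, ← map_mul, ← map_pow, k1] at this
  have i3 : ∀ a b c : G, a * x * a⁻¹ = x⁻¹ → b * x * b⁻¹ = x⁻¹ → c * x * c⁻¹ = x⁻¹ →
      a * b * c * x * (a * b * c)⁻¹ = x⁻¹ := fun a b c ha hb hc => by
    calc _ = a * (b * (c * x * c⁻¹) * b⁻¹) * a⁻¹ := by group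
      _ = a * (b * x * b⁻¹)⁻¹ * a⁻¹ := by rw [hc]; group
      _ = _ := by rw [hb, inv_inv, ha]
  have ic : ∀ s a : G, Commute s x → a * x * a⁻¹ = x⁻¹ → s * a * s⁻¹ * x * (s * a * s⁻¹)⁻¹ = x⁻¹ :=
    fun s a hs ha => by
      calc _ = s * (a * (s⁻¹ * x * s) * a⁻¹) * s⁻¹ := by group
        _ = _ := by rw [hs.inv_left.eq, inv_mul_cancel_right, ha, hs.inv_right.eq, mul_inv_cancel_right]
  have e3 : g ^ 3 * x * (g ^ 3)⁻¹ = x⁻¹ := by rw [pow_three']; exact i3 _ _ _ e e e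
  have e4 := i3 _ _ _ e3 (ic _ _ hr e3) (ic _ _ hr.inv_left e3)
  obtain ⟨a, ha⟩ := Set.nonempty_of_ncard_ne_zero (s := Δ) (by rw [h.card]; omega)
  have ho := hodd _ a (mem_Q.1 this ha)
  change Odd (orderOf (g ^ 3 * (r * g ^ 3 * r⁻¹) * (r⁻¹ * g ^ 3 * r⁻¹⁻¹))) at ho
  generalize g ^ 3 * (r * g ^ 3 * r⁻¹) * (r⁻¹ * g ^ 3 * r⁻¹⁻¹) = w at ho e4
  rw [comm_of_odd ho (x := x) (by
    calc _ = w * (w * x * w⁻¹) * w⁻¹ * (w * w) := by group
      _ = (w * x * w⁻¹)⁻¹ * (w * w) := by nth_rewrite 1 [e4]; group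
      _ = _ := by rw [e4, inv_inv]), mul_inv_cancel_right, eq_inv_iff_mul_eq_one, ← sq,
    ← orderOf_dvd_iff_pow_eq_one, x3] at e4
  omega

theorem sylow (hG : _root_.commutator G = ⊤) (h1 : 1 ≤ m) {R : Subgroup G}
    (hR : IsSyl 3 R (stabilizer G Δ)) : IsSyl 3 R ⊤ := by
  haveI : Fact (Nat.Prime 3) := ⟨Nat.prime_three⟩
  obtain ⟨S, hS, hle⟩ := exists_isSyl_ge hR.pgrp le_top
  refine hle.lt_or_eq.elim (fun hlt => False.elim ?_) fun e => e ▸ hS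
  obtain ⟨s, hs, -, hne, h2, h3, -⟩ := h.climb hR hS.pgrp hlt
  have q := pq_of_le h.card hR.le
  have hK := hR.pgrp.to_le q.1
  have c1 := card_le_of_lt3 hK 1 ((h.card_le (h.smul s) hne hK inf_le_right
    (inf_le_left.trans h2)).trans_lt (by omega))
  have c2 := q.three hm hR.pgrp
  obtain ⟨x, hx, x3, xc⟩ := exists_cent_p hR.pgrp hK q.norm (h.syl_ne_bot hR)
  have hu := h3.ge (conj_mem_cj s hx)
  have u3 := ord3 ((orderOf_conj' s x).trans x3)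
  have hu' : s * x * s⁻¹ ∉ fixingSubgroup G Δ := fun e => hne (h.eq (h.smul s) e hu.2 u3.1 u3.2)
  have c3 := mul_card_le hR.pgrp (lt_of_le_of_ne q.1 fun e => hu' (e.ge hu.1).2)
  have c4 := mul_card_le hS.pgrp hlt
  have c5 := card_le_of_le (zpowers_le.2 hx)
  rw [Nat.card_zpowers, x3] at c5
  exact NR.false ⟨(ord3 x3).1, x3 ▸ pow_orderOf_eq_one x, fun T hT hle =>
    (hR.card_le hT (hle.trans (h.cent hx.2 (ord3 x3).1 (ord3 x3).2))).trans (by omega),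
    h.nonreal hm hodd h1 hx.2 x3 (xc _ hu.1) hu' u3.2⟩ hG hS (hle hx.1) (by omega)

omit hodd in
theorem side (h' : Mx G 3 m Δ') (hne : Δ ≠ Δ') {P : Subgroup G} (hP : IsSyl 3 P (stabilizer G Δ))
    {y : G} (hy : y ∈ P) (hy' : y ∈ fixingSubgroup G Δ') (y3 : orderOf y = 3) :
    Nat.card (P ⊓ centralizer {y} : Subgroup G) ≤ 9 ∧
      (∃ z ∈ P ⊓ fixingSubgroup G Δ ⊓ stabilizer G Δ', orderOf z = 3) ∧
      ∀ z ∈ P ⊓ fixingSubgroup G Δ ⊓ stabilizer G Δ', ∀ r ∈ P, Commute r z := by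
  haveI : Fact (Nat.Prime 3) := ⟨Nat.prime_three⟩
  have q := pq_of_le h.card hP.le
  have hK := hP.pgrp.to_le q.1
  have hC := h'.cent hy' (ord3 y3).1 (ord3 y3).2
  have hU := hK.to_le (inf_le_left (b := stabilizer G Δ'))
  have c1 := card_le_of_lt3 hU 1 ((h.card_le h' hne hU (inf_le_left.trans inf_le_right)
    inf_le_right).trans_lt (by omega))
  obtain ⟨z, hz, z3, zc⟩ := exists_cent_p hP.pgrp hK q.norm (h.syl_ne_bot hP)
  have hz' := mem_inf.2 ⟨hz, hC (mem_centralizer_singleton_iff.2 (zc y hy).symm)⟩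
  have c2 := card_le_mul_inf (inf_le_left : P ⊓ centralizer {y} ≤ P) q.1 (q.three hm hP.pgrp)
  have c3 := card_le_of_le (show P ⊓ centralizer {y} ⊓ (P ⊓ fixingSubgroup G Δ) ≤ _ from
    fun x hx => mem_inf.2 ⟨hx.2, hC hx.1.2⟩)
  refine ⟨by omega, ⟨z, hz', z3⟩, fun w hw r hr => ?_⟩
  obtain ⟨k, rfl⟩ := (eq_of_le_of_card_ge (zpowers_le.2 hz') (by rwa [Nat.card_zpowers, z3])).ge hw
  exact (zc r hr).zpow_right k

theorem three [FaithfulSMul G Ω] [IsPretransitive G Ω] (hG : _root_.commutator G = ⊤) (h1 : 1 ≤ m) :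
    (∃ H : Subgroup G, H ≠ ⊤ ∧ 3 ∣ Nat.card H ∧
      ∀ g : G, g ∉ H → ¬ 3 ∣ Nat.card (H ⊓ cj(g, H) : Subgroup G)) ∨
    ∃ P : Subgroup G, IsSyl 3 P ⊤ ∧ Nat.card P = 9 ∧ ∀ x ∈ P, x ^ 3 = 1 := by
  haveI : Fact (Nat.Prime 3) := ⟨Nat.prime_three⟩
  obtain ⟨P, hP⟩ := exists_isSyl 3 (stabilizer G Δ)
  by_cases hPQ : P ≤ fixingSubgroup G Δ
  · obtain ⟨t, ht, t3, -⟩ := h.exQ
    refine Or.inl ⟨_, h.H_ne h1, t3 ▸ (stabilizer G Δ).orderOf_dvd_natCard (Q_le_H Δ ht),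
      fun g hg hd => hg ?_⟩
    obtain ⟨⟨y, hy, hy'⟩, y3⟩ := exists_prime_orderOf_dvd_card' 3 hd
    rw [← orderOf_coe] at y3
    have k : ∀ y ∈ stabilizer G Δ, orderOf y = 3 → y ∈ fixingSubgroup G Δ := fun y hy y3 => by
      obtain ⟨k, hk, e⟩ := hP.exists_cj_le (isPGroup_zpowers (ord3 y3).2) (zpowers_le.2 hy)
      simpa [mul_assoc] using inv_conj_mem_of_mem_normalizer (H_le_norm Δ hk)
        (hPQ (e (conj_mem_cj k (mem_zpowers y))))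
    exact ((h.smul g).eq h (Q_smul g Δ ▸ mem_cj.2 (k _ (mem_cj.1 hy')
      (by simpa using (orderOf_conj' g⁻¹ y).trans y3))) (k y hy y3) (ord3 y3).1 (ord3 y3).2 :)
  right
  by_cases ha : ∃ (Δ Δ' : Set Ω) (y : G), Mx G 3 m Δ ∧ Mx G 3 m Δ' ∧ Δ ≠ Δ' ∧
      y ∈ fixingSubgroup G Δ' ∧ y ∈ stabilizer G Δ ∧ orderOf y = 3
  · obtain ⟨Δ, Δ', y, h, h', hne, hy', hy, y3⟩ := ha
    obtain ⟨P, hP, hle⟩ := exists_isSyl_ge (isPGroup_zpowers (ord3 y3).2) (zpowers_le.2 hy)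
    have hyP := hle (mem_zpowers y)
    obtain ⟨c1, ⟨z, hz, z3⟩, c2⟩ := h.side hm h' hne hP hyP hy' y3
    have hyQ : y ∉ fixingSubgroup G Δ := fun e => hne (h.eq h' e hy' (ord3 y3).1 (ord3 y3).2)
    have hzQ : z ∉ fixingSubgroup G Δ' := fun e => hne (h.eq h' hz.1.2 e (ord3 z3).1 (ord3 z3).2)
    obtain ⟨P', hP', hle'⟩ := exists_isSyl_ge (hP.pgrp.to_le (inf_le_left (b := stabilizer G Δ')))
      inf_le_right
    have hyP' := hle' ⟨hyP, Q_le_H _ hy'⟩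
    have hzP' := hle' ⟨hz.1.1, hz.2⟩
    obtain ⟨d1, -, d2⟩ := h'.side hm h hne.symm hP' hzP' hz.1.2 z3
    rcases shear hP.pgrp hyP hz.1.1 y3 z3 (c2 z hz) (fun e => hyQ (zpowers_le.2 hz.1.2 e)) c1 with
      e | ⟨n, n1, n2⟩
    · exact ⟨P, h.sylow hm hodd hG h1 hP, e⟩
    rcases shear hP'.pgrp hzP' hyP' z3 y3 (d2 y ⟨⟨hyP', hy'⟩, hy⟩)
      (fun e => hzQ (zpowers_le.2 hy' e)) d1 with e | ⟨k, k1, k2⟩
    · exact ⟨P', h'.sylow hm hodd hG h1 hP', e⟩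
    refine absurd ?_ (h.nonreal hm hodd h1 hz.1.2 z3 (c2 z hz y hyP) hyQ (ord3 y3).2 (k * n * k))
    have zz : z * z = z⁻¹ := by
      rw [eq_inv_iff_mul_eq_one, ← pow_three', ← z3, pow_orderOf_eq_one]
    calc _ = k * (n * (k * z * k⁻¹) * n⁻¹) * k⁻¹ := by group
      _ = k * ((n * z * n⁻¹) * (n * y * n⁻¹)) * k⁻¹ := by rw [k1]; group
      _ = k * (y * (z * z)) * k⁻¹ := by rw [n1, n2, ← mul_assoc z, ← (c2 z hz y hyP).eq, mul_assoc y]
      _ = (k * y * k⁻¹) * (k * z * k⁻¹)⁻¹ := by rw [zz]; group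
      _ = _ := by rw [k1, k2]; group
  exfalso
  have hb : ∀ (k l : G) (y : G), y ∈ fixingSubgroup G (k • Δ) → y ∈ stabilizer G (l • Δ) →
      orderOf y = 3 → l • Δ = k • Δ := fun k l y a b c =>
    by_contra fun e => ha ⟨_, _, y, h.smul l, h.smul k, e, a, b, c⟩
  have hP' := h.sylow hm hodd hG h1 hP
  have q := pq_of_le h.card hP.le
  obtain ⟨z, hz, z3, zc⟩ := exists_cent_p hP.pgrp (hP.pgrp.to_le q.1) q.norm (h.syl_ne_bot hP)
  have key := Transfer.commutator_inf_eq_of_controls (H := P) (V := stabilizer G Δ) (by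
    obtain ⟨k, hk⟩ := hP.pgrp.index (⁅P, P⁆.subgroupOf P)
    rw [relIndex, hk]
    exact Nat.Coprime.pow_right _ ((Nat.Prime.coprime_iff_not_dvd Nat.prime_three).2
      (relIndex_top_right P ▸ hP'.not_dvd_relIndex)).symm) hP.le fun a haP g hg => by
    have m1 : z ∈ centralizer {g * a * g⁻¹} := mem_centralizer_singleton_iff.2 (zc _ hg).symm
    have m2 : g * z * g⁻¹ ∈ centralizer {g * a * g⁻¹} := by
      rw [centralizer_singleton_conj]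
      exact conj_mem_cj g (mem_centralizer_singleton_iff.2 (zc _ haP).symm)
    have o2 := (orderOf_conj' g z).trans z3
    obtain ⟨T, hT, hle⟩ := exists_isSyl_ge (isPGroup_zpowers (ord3 z3).2) (zpowers_le.2 m1)
    obtain ⟨c, hc, e⟩ := hT.exists_cj_le (isPGroup_zpowers (ord3 o2).2) (zpowers_le.2 m2)
    obtain ⟨l, -, hl⟩ := hP'.exists_le_cj hT.pgrp le_top
    replace hl := hl.trans ((cj_mono l hP.le).trans (H_smul l Δ).ge)
    have e1 := hb 1 l z (by rw [one_smul]; exact hz.2) (hl (hle (mem_zpowers z))) z3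
    have e2 := hb (c * g) l _ (by rw [Q_smul, cj_mul]; exact conj_mem_cj c (conj_mem_cj g hz.2))
      (hl (e (conj_mem_cj c (mem_zpowers _)))) ((orderOf_conj' c _).trans o2)
    refine ⟨c * g, e2.symm.trans (e1.trans (one_smul _ _)), ?_⟩
    calc _ = c * (g * a * g⁻¹) * c⁻¹ := by group
      _ = _ := by rw [mem_centralizer_singleton_iff.1 hc, mul_inv_cancel_right]
  obtain ⟨r, hr, hrQ⟩ := SetLike.not_le_iff_exists.1 hPQ
  obtain ⟨φ, -, k2⟩ := h.ev hm hodd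
  obtain ⟨a1, a2, a3⟩ := k2 ⟨r, hP.le hr⟩ hrQ (isPGroup_iff.1 hP.pgrp r hr)
  let W : Subgroup (stabilizer G Δ) :=
    { carrier := {x | φ x ^ 2 = 1}
      one_mem' := by simp
      mul_mem' := fun {a b} ha hb => (map_mul φ a b ▸ (perm_sq hm _ (a3 a) _ (a3 b)).2 ha hb :)
      inv_mem' := fun {a} ha => by
        change φ a⁻¹ ^ 2 = 1
        rw [map_inv, inv_pow, show φ a ^ 2 = 1 from ha, inv_one] }
  have hW : _root_.commutator (stabilizer G Δ) ≤ W := commutator_le.2 fun a _ b _ => by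
    change φ _ ^ 2 = 1
    simpa [commutatorElement_def] using (perm_sq hm _ (a3 a) _ (a3 b)).1
  have := (key.le ⟨hG ▸ mem_top r, hr⟩).1
  rw [← map_subtype_commutator] at this
  have a4 : φ ⟨r, hP.le hr⟩ ^ 2 = 1 := hW ((mem_map_subtype (x := ⟨r, hP.le hr⟩)).1 this)
  exact a1 (by rw [pow_succ, a4, one_mul] at a2; exact a2)

end Mx

end Cfsg.Agent.Fxy
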